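import Groth.Agent.DimOne.Alg
import Mathlib

/-!
# Complements of affine opens and principal closed subschemes have codimension at most one
-/

set_option autoImplicit false
set_option linter.style.haveILetI false

universe u

open CategoryTheory AlgebraicGeometry TopologicalSpace Opposite IsLocalRing

namespace Groth.Agent.DimOne

/-- The punctured spectrum of a Noetherian local ring being affine forces dimension at most one. -/
theorem ringKrullDim_le_one_of_isAffineOpen (A : CommRingCat.{u}) [IsLocalRing A] [IsNoetherianRing A]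
    (V : (Spec A).Opens) (hV : IsAffineOpen V)
    (hmem : ∀ p : Spec A, p ∈ V ↔ p ≠ IsLocalRing.closedPoint A) : ringKrullDim A ≤ 1 := by
  classical
  let r : Γ(Spec A, ⊤) ⟶ Γ(Spec A, V) := (Spec A).presheaf.map (homOfLE le_top).op
  let φ : (A : Type u) →+* Γ(Spec A, V) := ((Scheme.ΓSpecIso A).inv ≫ r).hom
  -- the open `D(a)`, for `a` in the maximal ideal, seen as a basic open of `V`
  have hD : ∀ a ∈ maximalIdeal A, (Spec A).basicOpen (φ a) = PrimeSpectrum.basicOpen (a : A) := by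
    intro a ha
    have e : φ a = r ((Scheme.ΓSpecIso A).inv a) := rfl
    rw [e, Scheme.basicOpen_res, basicOpen_eq_of_affine]
    refine inf_eq_right.2 fun p hp => (hmem p).2 ?_
    rintro rfl
    exact hp ha
  have hloc : ∀ a ∈ maximalIdeal A,
      (∀ b : Γ(Spec A, V), ∃ (n : ℕ) (c : A), φ a ^ n * b = φ c) ∧
      ∀ c : A, φ c = 0 → ∃ n : ℕ, a ^ n * c = 0 := by
    intro a ha
    let W := (Spec A).basicOpen (φ a)
    have hWV : W ≤ V := (Spec A).basicOpen_le _
    let s : Γ(Spec A, V) ⟶ Γ(Spec A, W) := (Spec A).presheaf.map (homOfLE hWV).op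
    letI : Algebra Γ(Spec A, V) Γ(Spec A, W) := s.hom.toAlgebra
    haveI : IsLocalization.Away (φ a) Γ(Spec A, W) :=
      hV.isLocalization_of_eq_basicOpen (φ a) (homOfLE hWV) rfl
    let t : Γ(Spec A, ⊤) ⟶ Γ(Spec A, W) := (Spec A).presheaf.map (homOfLE le_top).op
    have hrs : ∀ z, s (r z) = t z := fun z => by
      rw [← CommRingCat.comp_apply, ← Functor.map_comp]; rfl
    let a' : Γ(Spec A, ⊤) := (Scheme.ΓSpecIso A).inv a
    have hWtop : W = (Spec A).basicOpen a' := by
      rw [show W = _ from hD a ha, basicOpen_eq_of_affine]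
    letI : Algebra Γ(Spec A, ⊤) Γ(Spec A, W) := t.hom.toAlgebra
    haveI : IsLocalization.Away a' Γ(Spec A, W) :=
      (isAffineOpen_top (Spec A)).isLocalization_of_eq_basicOpen a' (homOfLE le_top) hWtop
    have hφa : ∀ c : A, φ c = r ((Scheme.ΓSpecIso A).inv c) := fun c => rfl
    constructor
    · intro b
      obtain ⟨⟨z, ⟨_, m, rfl⟩⟩, hz⟩ := IsLocalization.surj (Submonoid.powers a') (s b)
      have h1 : s (φ a ^ m * b) = s (r z) := by
        rw [hrs, map_mul, map_pow, hφa, hrs, mul_comm]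
        simpa [RingHom.algebraMap_toAlgebra] using hz
      obtain ⟨⟨_, l, rfl⟩, hl⟩ := (IsLocalization.eq_iff_exists (Submonoid.powers (φ a)) Γ(Spec A, W)).1 h1
      refine ⟨l + m, a ^ l * (Scheme.ΓSpecIso A).hom z, ?_⟩
      rw [pow_add, mul_assoc, map_mul, map_pow, hφa ((Scheme.ΓSpecIso A).hom z),
        ← CommRingCat.comp_apply (Scheme.ΓSpecIso A).hom, Iso.hom_inv_id]
      exact hl
    · intro c hc
      have h1 : t ((Scheme.ΓSpecIso A).inv c) = 0 := by rw [← hrs, ← hφa, hc, map_zero]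
      obtain ⟨⟨_, l, rfl⟩, hl⟩ := (IsLocalization.map_eq_zero_iff (Submonoid.powers a') Γ(Spec A, W) _).1 h1
      refine ⟨l, ?_⟩
      have := congrArg (Scheme.ΓSpecIso A).hom hl
      simpa [a', ← CommRingCat.comp_apply] using this
  -- the set of `a` carrying a given element into the image contains a power of `m`
  have hpow : ∀ (I : Ideal A), (∀ a ∈ maximalIdeal A, ∃ n : ℕ, a ^ n ∈ I) →
      ∃ k : ℕ, maximalIdeal A ^ k ≤ I := fun I hI => by
    obtain ⟨k, hk⟩ := Ideal.exists_pow_le_of_le_radical_of_fg (show maximalIdeal A ≤ I.radical from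
      fun a ha => hI a ha) (IsNoetherian.noetherian _)
    exact ⟨k, hk⟩
  refine ringKrullDim_le_one φ ?_ ?_ ?_
  · intro c hc
    obtain ⟨k, hk⟩ := hpow (LinearMap.ker (LinearMap.mulRight A c)) fun a ha => by
      obtain ⟨n, hn⟩ := (hloc a ha).2 c hc
      exact ⟨n, by simpa using hn⟩
    exact ⟨k, fun t ht => by simpa using hk ht⟩
  · rw [Ideal.map, ← hV.iSup_basicOpen_eq_self_iff]
    refine le_antisymm (iSup_le fun f => (Spec A).basicOpen_le _) fun p hp => ?_
    have hne : ¬ maximalIdeal A ≤ p.asIdeal := fun h =>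
      (hmem p).1 hp (PrimeSpectrum.ext (le_antisymm (IsLocalRing.le_maximalIdeal p.2.ne_top) h))
    obtain ⟨a, ha, hap⟩ := SetLike.not_le_iff_exists.1 hne
    exact Opens.mem_iSup.2 ⟨⟨φ a, a, ha, rfl⟩, by rw [hD a ha]; exact hap⟩
  · intro b
    let J : Ideal A :=
      { carrier := {a | φ a * b ∈ φ.range}
        add_mem' := fun {x y} hx hy => by
          simp only [Set.mem_setOf_eq, map_add, add_mul]; exact add_mem hx hy
        zero_mem' := by simp only [Set.mem_setOf_eq, map_zero, zero_mul]; exact zero_mem _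
        smul_mem' := fun c x hx => by
          simp only [Set.mem_setOf_eq, smul_eq_mul, map_mul, mul_assoc]
          exact mul_mem (φ.mem_range_self c) hx }
    obtain ⟨k, hk⟩ := hpow J fun a ha => by
      obtain ⟨n, c, hn⟩ := (hloc a ha).1 b
      exact ⟨n, c, by rw [map_pow, hn]⟩
    exact ⟨k, fun a ha => hk ha⟩

variable {X : Scheme.{u}}

/-- The points of the spectrum of a stalk that are not closed go to proper generizations. -/
theorem fromSpecStalk_ne {ξ : X} {p : Spec (X.presheaf.stalk ξ)} (hp : p ≠ IsLocalRing.closedPoint _) :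
    (X.fromSpecStalk ξ) p ≠ ξ := fun h => hp <| (X.fromSpecStalk ξ).isEmbedding.injective <| by
  rw [h, Scheme.fromSpecStalk_closedPoint]

/-- If the inclusion of `U` is affine, the local rings at the maximal points outside `U` have dimension at
most one. -/
theorem ringKrullDim_stalk_le_one [IsLocallyNoetherian X] (U : X.Opens) [IsAffineHom U.ι] (ξ : X)
    (hξ : ξ ∉ U) (hgen : ∀ y : X, y ∉ U → y ⤳ ξ → y = ξ) : ringKrullDim (X.presheaf.stalk ξ) ≤ 1 := by
  let f := X.fromSpecStalk ξ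
  haveI : IsAffineHom (f ⁻¹ᵁ U).ι :=
    MorphismProperty.of_isPullback (P := @IsAffineHom) (isPullback_morphismRestrict f U) inferInstance
  have hV : IsAffineOpen (f ⁻¹ᵁ U) := isAffine_of_isAffineHom (f ⁻¹ᵁ U).ι
  refine ringKrullDim_le_one_of_isAffineOpen _ (f ⁻¹ᵁ U) hV fun p => ?_
  constructor
  · rintro hp rfl
    exact hξ (by rw [← Scheme.fromSpecStalk_closedPoint (X := X) (x := ξ)]; exact hp)
  · intro hp
    by_contra hnU
    refine fromSpecStalk_ne hp (hgen _ hnU ?_)
    have : f p ∈ Set.range f := ⟨p, rfl⟩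
    rwa [Scheme.range_fromSpecStalk] at this

/-- A point with zero-dimensional Noetherian local ring lies in every dense open. -/
theorem mem_of_dense_of_ringKrullDim_le_zero [IsLocallyNoetherian X] (U : X.Opens) (hU : Dense (U : Set X))
    (ξ : X) (h0 : ringKrullDim (X.presheaf.stalk ξ) ≤ 0) : ξ ∈ U := by
  obtain ⟨W, hW, hξW, -⟩ := exists_isAffineOpen_mem_and_subset (x := ξ) (U := ⊤) trivial
  haveI : IsNoetherianRing Γ(X, W) := IsLocallyNoetherian.component_noetherian ⟨W, hW⟩
  letI := TopCat.Presheaf.algebra_section_stalk X.presheaf (⟨ξ, hξW⟩ : W)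
  haveI := hW.isLocalization_stalk ⟨ξ, hξW⟩
  let p := hW.primeIdealOf ⟨ξ, hξW⟩
  have hmin : p.asIdeal ∈ minimalPrimes Γ(X, W) := by
    rw [← Ideal.height_eq_zero_iff]
    rw [IsLocalization.AtPrime.ringKrullDim_eq_height p.asIdeal (X.presheaf.stalk ξ)] at h0
    exact le_antisymm (by exact_mod_cast h0) bot_le
  -- an element outside `p` lying in every other minimal prime
  have hfin := minimalPrimes.finite_of_isNoetherianRing Γ(X, W)
  obtain ⟨s, hs, hsp⟩ : ∃ s, (∀ q ∈ minimalPrimes Γ(X, W), q ≠ p.asIdeal → s ∈ q) ∧ s ∉ p.asIdeal := by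
    by_contra hne
    push Not at hne
    have hle : (hfin.toFinset.erase p.asIdeal).inf id ≤ p.asIdeal := fun a ha => hne a fun q hq hqp =>
      (Finset.inf_le (f := id) (Finset.mem_erase.2 ⟨hqp, hfin.mem_toFinset.2 hq⟩) : _ ≤ q) ha
    obtain ⟨q, hq, hqp⟩ := p.2.inf_le'.1 hle
    rw [Finset.mem_erase, hfin.mem_toFinset] at hq
    exact hq.1 (le_antisymm hqp (hmin.2 ⟨hq.2.1.1, bot_le⟩ hqp))
  have hξs : ξ ∈ X.basicOpen s := by
    have : p ∈ hW.fromSpec ⁻¹ᵁ X.basicOpen s := by rw [hW.fromSpec_preimage_basicOpen]; exact hsp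
    change hW.fromSpec p ∈ X.basicOpen s at this
    rwa [hW.fromSpec_primeIdealOf ⟨ξ, hξW⟩] at this
  obtain ⟨y, hys, hyU⟩ := hU.inter_open_nonempty _ (X.basicOpen s).isOpen ⟨ξ, hξs⟩
  let q := hW.primeIdealOf ⟨y, X.basicOpen_le s hys⟩
  have hqy : hW.fromSpec q = y := hW.fromSpec_primeIdealOf _
  have hsq : s ∉ q.asIdeal := by
    have : q ∈ hW.fromSpec ⁻¹ᵁ X.basicOpen s := by
      change hW.fromSpec q ∈ X.basicOpen s
      rwa [hqy]
    rwa [hW.fromSpec_preimage_basicOpen] at this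
  obtain ⟨q₀, hq₀, hle⟩ := Ideal.exists_minimalPrimes_le (I := (⊥ : Ideal Γ(X, W))) (J := q.asIdeal) bot_le
  have hpq : p ≤ q := by
    by_cases e : q₀ = p.asIdeal
    · rw [e] at hle; exact hle
    · exact absurd (hle (hs q₀ hq₀ e)) hsq
  have hsp' : ξ ⤳ y := by
    have := ((PrimeSpectrum.le_iff_specializes p q).1 hpq).map hW.fromSpec.continuous
    rwa [hqy, hW.fromSpec_primeIdealOf ⟨ξ, hξW⟩] at this
  exact hsp'.mem_open U.isOpen hyU

/-- At a maximal point of the zero locus of one function the local ring has dimension at most one; exactly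
one if the function is a nonzerodivisor. -/
theorem stalk_of_locPrincipal [IsLocallyNoetherian X] (D : X.IdealSheafData) (W : X.affineOpens)
    (g : Γ(X, W)) (hg : D.ideal W = Ideal.span {g}) (ξ : X) (hξW : ξ ∈ W.1) (hξ : ξ ∈ D.support)
    (hgen : ∀ y ∈ (D.support : Set X), y ⤳ ξ → y = ξ) :
    (W.2.primeIdealOf ⟨ξ, hξW⟩).asIdeal ∈ (Ideal.span {g}).minimalPrimes ∧
      ringKrullDim (X.presheaf.stalk ξ) ≤ 1 ∧
      (g ∈ nonZeroDivisors Γ(X, W) → ringKrullDim (X.presheaf.stalk ξ) = 1) := by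
  haveI : IsNoetherianRing Γ(X, W) := IsLocallyNoetherian.component_noetherian W
  letI := TopCat.Presheaf.algebra_section_stalk X.presheaf (⟨ξ, hξW⟩ : W.1)
  haveI := W.2.isLocalization_stalk ⟨ξ, hξW⟩
  let p := W.2.primeIdealOf ⟨ξ, hξW⟩
  have hpξ : W.2.fromSpec p = ξ := W.2.fromSpec_primeIdealOf _
  have hsupp : ∀ q, W.2.fromSpec q ∈ D.support ↔ g ∈ q.asIdeal := by
    intro q
    have hq : W.2.fromSpec q ∈ W.1 := by
      rw [← SetLike.mem_coe, ← W.2.range_fromSpec]; exact ⟨q, rfl⟩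
    rw [D.mem_support_iff_of_mem hq, hg, Scheme.zeroLocus_span, ← Set.mem_preimage,
      W.2.fromSpec_preimage_zeroLocus]
    exact Set.singleton_subset_iff
  haveI := W.2.isOpenImmersion_fromSpec
  have hmin : p.asIdeal ∈ (Ideal.span {g}).minimalPrimes := by
    refine ⟨⟨p.2, (Ideal.span_singleton_le_iff_mem _).2 ((hsupp p).1 (by rwa [hpξ]))⟩,
      fun q ⟨hq, hgq⟩ hqp => ?_⟩
    let q' : PrimeSpectrum Γ(X, W) := ⟨q, hq⟩
    have h1 : W.2.fromSpec q' ∈ (D.support : Set X) :=
      (hsupp q').2 ((Ideal.span_singleton_le_iff_mem _).1 hgq)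
    have h2 : W.2.fromSpec q' ⤳ ξ := by
      have := ((PrimeSpectrum.le_iff_specializes q' p).1 hqp).map W.2.fromSpec.continuous
      rwa [hpξ] at this
    have h3 : q' = p := W.2.fromSpec.isOpenEmbedding.injective ((hgen _ h1 h2).trans hpξ.symm)
    exact le_of_eq (congrArg PrimeSpectrum.asIdeal h3).symm
  refine ⟨hmin, ?_⟩
  rw [IsLocalization.AtPrime.ringKrullDim_eq_height p.asIdeal (X.presheaf.stalk ξ)]
  have h1 : p.asIdeal.height ≤ 1 := Ideal.height_le_one_of_isPrincipal_of_mem_minimalPrimes _ _ hmin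
  refine ⟨by exact_mod_cast h1, fun hnz => ?_⟩
  have h0 : p.asIdeal.height ≠ 0 := by
    rw [ne_eq, Ideal.height_eq_zero_iff]
    exact fun hm => (Ideal.disjoint_nonZeroDivisors_of_mem_minimalPrimes hm).le_bot
      ⟨(Ideal.span_singleton_le_iff_mem _).1 hmin.1.2, hnz⟩
  exact_mod_cast le_antisymm h1 (Order.one_le_iff_ne_zero.2 h0)

end Groth.Agent.DimOne
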