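import Mathlib

/-!
# Radical ideals of pure height one in factorial rings are principal
-/

set_option autoImplicit false

namespace Groth.Agent.DimOne

theorem span_inf_span_prime {R : Type*} [CommRing R] [IsDomain R] {c π : R} (hπ : Prime π) (h : ¬ π ∣ c) :
    Ideal.span {c} ⊓ Ideal.span {π} = Ideal.span {c * π} := by
  refine le_antisymm ?_ (le_inf ?_ ?_)
  · rintro x ⟨hc, hp⟩
    obtain ⟨y, rfl⟩ := Ideal.mem_span_singleton.1 hc
    obtain ⟨z, rfl⟩ := (hπ.dvd_or_dvd (Ideal.mem_span_singleton.1 hp)).resolve_left h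
    exact Ideal.mem_span_singleton.2 ⟨z, by ring⟩
  · exact Ideal.span_singleton_le_span_singleton.2 ⟨π, rfl⟩
  · exact Ideal.span_singleton_le_span_singleton.2 ⟨c, mul_comm _ _⟩

/-- A radical nonzero ideal of a Noetherian factorial domain whose minimal primes have height at most one
is principal. -/
theorem exists_span_of_radical {R : Type*} [CommRing R] [IsDomain R] [UniqueFactorizationMonoid R]
    [IsNoetherianRing R] (J : Ideal R) (hrad : J.IsRadical) (h0 : J ≠ ⊥)
    (hht : ∀ q ∈ J.minimalPrimes, q.height ≤ 1) : ∃ a : R, a ≠ 0 ∧ J = Ideal.span {a} := by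
  classical
  have hfin : J.minimalPrimes.Finite := Ideal.finite_minimalPrimes_of_isNoetherianRing R J
  have hpi : ∀ q ∈ J.minimalPrimes, ∃ π : R, Prime π ∧ q = Ideal.span {π} := by
    intro q hq
    obtain ⟨π, hπq, hπ⟩ := hq.1.1.exists_mem_prime_of_ne_bot fun e => h0 (le_bot_iff.1 (e ▸ hq.1.2))
    refine ⟨π, hπ, ?_⟩
    haveI : (Ideal.span {π}).IsPrime := (Ideal.span_singleton_prime hπ.ne_zero).2 hπ
    haveI := hq.1.1
    by_contra hne
    have hlt : Ideal.span {π} < q := lt_of_le_of_ne ((Ideal.span_singleton_le_iff_mem _).2 hπq) (Ne.symm hne)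
    have h1 : (⊥ : Ideal R) < Ideal.span {π} := bot_lt_iff_ne_bot.2 (by simpa using hπ.ne_zero)
    have h2 := Ideal.height_strict_mono_of_isPrime h1
    have h3 := Ideal.height_strict_mono_of_isPrime hlt
    exact ((Order.add_one_le_of_lt h2).trans_lt h3).not_ge (by
      calc q.height ≤ 1 := hht q hq
        _ ≤ (⊥ : Ideal R).height + 1 := le_add_self)
  have key : ∀ s : Finset (Ideal R), (↑s : Set (Ideal R)) ⊆ J.minimalPrimes →
      ∃ a : R, a ≠ 0 ∧ s.inf id = Ideal.span {a} ∧ ∀ q ∈ J.minimalPrimes, q ∉ s → a ∉ q := by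
    intro s
    induction s using Finset.induction with
    | empty =>
      exact fun _ => ⟨1, one_ne_zero, by simp, fun q hq _ h => hq.1.1.ne_top ((Ideal.eq_top_iff_one _).2 h)⟩
    | insert q s hqs ih =>
      intro hsub
      rw [Finset.coe_insert, Set.insert_subset_iff] at hsub
      obtain ⟨a, ha, hinf, hout⟩ := ih hsub.2
      obtain ⟨π, hπ, rfl⟩ := hpi q hsub.1
      have hnd : ¬ π ∣ a := fun h => hout _ hsub.1 hqs (Ideal.mem_span_singleton.2 h)
      refine ⟨a * π, mul_ne_zero ha hπ.ne_zero, ?_, fun r hr hrs h => ?_⟩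
      · rw [Finset.inf_insert, hinf, id_eq, inf_comm, span_inf_span_prime hπ hnd]
      · rw [Finset.mem_insert, not_or] at hrs
        rcases hr.1.1.mem_or_mem h with h | h
        · exact hout r hr hrs.2 h
        · refine hrs.1 ?_
          exact le_antisymm (hr.2 hsub.1.1 ((Ideal.span_singleton_le_iff_mem _).2 h))
            ((Ideal.span_singleton_le_iff_mem _).2 h)
  obtain ⟨a, ha, hinf, -⟩ := key hfin.toFinset (by simp)
  refine ⟨a, ha, ?_⟩
  have e : J = sInf J.minimalPrimes := by rw [Ideal.sInf_minimalPrimes, hrad.radical]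
  refine e.trans ((Eq.trans ?_ hinf))
  rw [sInf_eq_iInf, Finset.inf_eq_iInf]
  simp

end Groth.Agent.DimOne
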