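import Mathlib

/-!
# Affine punctured spectrum forces dimension at most one

Algebraic core: a Noetherian local domain `A` with an overring `B` such that the maximal ideal generates the
unit ideal of `B` and every element of `B` is multiplied into `A` by some power of the maximal ideal has
dimension at most one. The proof replaces local cohomology by a descending chain condition on the
`m`-torsion of `A / x A`.
-/

set_option autoImplicit false

open IsLocalRing

set_option linter.style.haveILetI false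

namespace Groth.Agent.DimOne

variable {A B : Type*} [CommRing A] [CommRing B]

/-- If `m B = B` and a power of `m` kills `b`, then `b = 0`. -/
theorem eq_zero_of_pow_kill {φ : A →+* B} {m : Ideal A} (hm : m.map φ = ⊤) {b : B} {k : ℕ}
    (h : ∀ a ∈ m ^ k, φ a * b = 0) : b = 0 := by
  have h1 : (1 : B) ∈ (m ^ k).map φ := by
    rw [Ideal.map_pow, hm, Ideal.top_pow]; exact Submodule.mem_top
  have h2 : (m ^ k).map φ ≤ LinearMap.ker (LinearMap.mulRight B b) := by
    rw [Ideal.map_le_iff_le_comap]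
    intro a ha
    simpa using h a ha
  simpa using h2 h1

/-- A finitely generated module killed by a power of the maximal ideal is Artinian. -/
theorem isArtinian_of_pow_kill [IsLocalRing A] [IsNoetherianRing A] {T : Type*} [AddCommGroup T] [Module A T]
    [Module.Finite A T] {K : ℕ} (h : ∀ a ∈ maximalIdeal A ^ K, ∀ t : T, a • t = 0) : IsArtinian A T := by
  let J : Ideal A := maximalIdeal A ^ (K + 1)
  have hJ : J ≤ maximalIdeal A := Ideal.pow_le_self (Nat.succ_ne_zero K)
  have htor : Module.IsTorsionBySet A T (J : Set A) := fun t a =>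
    h a.1 (Ideal.pow_le_pow_right (Nat.le_succ K) a.2) t
  haveI : Nontrivial (A ⧸ J) := Ideal.Quotient.nontrivial_iff.2 fun e =>
    (maximalIdeal.isMaximal A).ne_top (top_le_iff.1 (e ▸ hJ))
  haveI : IsLocalRing (A ⧸ J) := IsLocalRing.of_surjective' (Ideal.Quotient.mk J) Ideal.Quotient.mk_surjective
  haveI : IsArtinianRing (A ⧸ J) := by
    rw [isArtinianRing_iff_isNilpotent_maximalIdeal]
    refine ⟨K + 1, ?_⟩
    have e : maximalIdeal (A ⧸ J) = (maximalIdeal A).map (Ideal.Quotient.mk J) :=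
      (IsLocalRing.map_maximalIdeal_of_surjective _ Ideal.Quotient.mk_surjective).symm
    rw [e, ← Ideal.map_pow, Ideal.map_quotient_self, Ideal.zero_eq_bot]
  letI := htor.module
  haveI : IsScalarTower A (A ⧸ J) T := htor.isScalarTower
  haveI : Module.Finite (A ⧸ J) T := Module.Finite.of_restrictScalars_finite A _ _
  haveI : IsArtinian (A ⧸ J) T := isArtinian_of_fg_of_artinian'
  exact isArtinian_of_surjective_algebraMap (R := A ⧸ J) Ideal.Quotient.mk_surjective

/-- The core statement for domains. -/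
theorem ringKrullDim_le_one_of_domain [IsDomain A] [IsLocalRing A] [IsNoetherianRing A] (φ : A →+* B)
    (hinj : Function.Injective φ) (hm : (maximalIdeal A).map φ = ⊤)
    (hb : ∀ b : B, ∃ k : ℕ, ∀ a ∈ maximalIdeal A ^ k, φ a * b ∈ φ.range) : ringKrullDim A ≤ 1 := by
  classical
  have htf : ∀ x : A, x ≠ 0 → ∀ b : B, φ x * b = 0 → b = 0 := by
    intro x hx b hxb
    obtain ⟨k, hk⟩ := hb b
    refine eq_zero_of_pow_kill hm (k := k) fun a ha => ?_
    obtain ⟨c, hc⟩ := hk a ha
    have : φ (x * c) = φ 0 := by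
      rw [map_mul, map_zero, hc, mul_left_comm, hxb, mul_zero]
    rcases mul_eq_zero.1 (hinj this) with h | h
    · exact absurd h hx
    · rw [← hc, h, map_zero]
  rcases le_or_gt (ringKrullDim A) 1 with hle | hgt
  · exact hle
  obtain ⟨x, hxm, hx0⟩ : ∃ x ∈ maximalIdeal A, x ≠ 0 := by
    by_contra hne
    push Not at hne
    have hbot : maximalIdeal A = ⊥ := (Submodule.eq_bot_iff _).2 hne
    have := IsLocalRing.maximalIdeal_height_eq_ringKrullDim (R := A)
    rw [hbot, show (⊥ : Ideal A).height = 0 from Ideal.height_bot] at this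
    rw [← this] at hgt
    exact absurd hgt (by simp)
  have hφx : ∀ n, ∀ b : B, φ x ^ n * b = 0 → b = 0 := fun n b h =>
    htf (x ^ n) (pow_ne_zero _ hx0) b (by rwa [map_pow])
  -- `M n` : elements `a` of `A` with `a = x ^ n * b` for some `b : B`
  let M : ℕ → Ideal A := fun n =>
    { carrier := {a | ∃ b : B, φ a = φ x ^ n * b}
      add_mem' := by
        rintro a a' ⟨b, hb⟩ ⟨b', hb'⟩
        exact ⟨b + b', by rw [map_add, hb, hb', mul_add]⟩
      zero_mem' := ⟨0, by simp⟩
      smul_mem' := by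
        rintro c a ⟨b, hb⟩
        exact ⟨φ c * b, by simp only [smul_eq_mul, map_mul, hb]; ring⟩ }
  -- a power of `m` carries `M n` into `x ^ n A`
  have hK : ∀ n, ∃ K : ℕ, maximalIdeal A ^ K * M n ≤ Ideal.span {x ^ n} := by
    intro n
    obtain ⟨s, hs⟩ := IsNoetherian.noetherian (M n)
    choose bs hbs using fun a : s => (show (a : A) ∈ M n from hs ▸ Ideal.subset_span a.2)
    choose ks hks using fun a : s => hb (bs a)
    refine ⟨Finset.univ.sup ks, ?_⟩
    rw [← hs, Ideal.mul_le]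
    intro a ha c hc
    induction hc using Submodule.span_induction with
    | mem c hc =>
      obtain ⟨d, hd⟩ := hks ⟨c, hc⟩ a (Ideal.pow_le_pow_right (Finset.le_sup (Finset.mem_univ _)) ha)
      refine Ideal.mem_span_singleton'.2 ⟨d, hinj ?_⟩
      rw [map_mul, map_mul, hd, hbs ⟨c, hc⟩, map_pow]
      ring
    | zero => simp
    | add c c' _ _ h h' => rw [mul_add]; exact add_mem h h'
    | smul r c _ h =>
      rw [smul_eq_mul, mul_left_comm]
      exact Ideal.mul_mem_left _ r h
  have hS : ∀ b : B, ∃ n, φ x ^ n * b ∈ φ.range := fun b => by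
    obtain ⟨k, hk⟩ := hb b
    exact ⟨k, by rw [← map_pow]; exact hk _ (Ideal.pow_mem_pow hxm k)⟩
  -- the images `I n` of `Q[x ^ (n + 1)] → Q[x]`, `Q = B / A`, inside `A / x A`
  let I : ℕ → Ideal A := fun n =>
    { carrier := {a | ∃ b : B, φ x ^ (n + 1) * b ∈ φ.range ∧ ∃ c : A, φ a = φ x * (φ x ^ n * b + φ c)}
      add_mem' := by
        rintro a a' ⟨b, hb, c, hc⟩ ⟨b', hb', c', hc'⟩
        exact ⟨b + b', by rw [mul_add]; exact add_mem hb hb', c + c', by
          rw [map_add, hc, hc', map_add]; ring⟩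
      zero_mem' := ⟨0, by rw [mul_zero]; exact zero_mem _, 0, by simp⟩
      smul_mem' := by
        rintro r a ⟨b, hb, c, hc⟩
        refine ⟨φ r * b, ?_, r * c, ?_⟩
        · rw [mul_left_comm]; exact mul_mem ⟨r, rfl⟩ hb
        · simp only [smul_eq_mul, map_mul, hc]; ring }
  have hIM : ∀ n, I n ≤ M 1 := fun n a ⟨b, _, c, hc⟩ => ⟨φ x ^ n * b + φ c, by rw [pow_one]; exact hc⟩
  have hxI : ∀ n, Ideal.span {x} ≤ I n := fun n => by
    rw [Ideal.span_singleton_le_iff_mem]
    exact ⟨0, by rw [mul_zero]; exact zero_mem _, 1, by simp⟩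
  have hIanti : ∀ n, I (n + 1) ≤ I n := fun n a ⟨b, hb, c, hc⟩ =>
    ⟨φ x * b, by rwa [← mul_assoc, ← pow_succ], c, by rw [hc]; ring⟩
  obtain ⟨n₀, hn₀⟩ : ∃ n₀, ∀ n, n₀ ≤ n → I n₀ ≤ I n := by
    obtain ⟨K, hK1⟩ := hK 1
    rw [pow_one] at hK1
    let q := Submodule.mkQ (Ideal.span {x})
    let T : Submodule A (A ⧸ Ideal.span {x}) := Submodule.map q (M 1)
    haveI : IsArtinian A T := isArtinian_of_pow_kill (K := K) fun r hr ⟨t, a, ha, ht⟩ => by
      apply Subtype.ext
      show r • t = 0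
      rw [← ht, ← map_smul, Submodule.mkQ_apply, Submodule.Quotient.mk_eq_zero, smul_eq_mul]
      exact hK1 (Ideal.mul_mem_mul hr ha)
    obtain ⟨n₀, hn₀⟩ := IsArtinian.monotone_stabilizes
      (⟨fun n => OrderDual.toDual (Submodule.comap T.subtype (Submodule.map q (I n))),
        monotone_nat_of_le_succ fun n => Submodule.comap_mono (Submodule.map_mono (hIanti n))⟩ :
        ℕ →o (Submodule A T)ᵒᵈ)
    refine ⟨n₀, fun n hn a ha => ?_⟩
    have e : Submodule.comap T.subtype (Submodule.map q (I n₀)) =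
        Submodule.comap T.subtype (Submodule.map q (I n)) := hn₀ n hn
    have hmem : (⟨q a, a, hIM _ ha, rfl⟩ : T) ∈ Submodule.comap T.subtype (Submodule.map q (I n₀)) :=
      ⟨a, ha, rfl⟩
    rw [e] at hmem
    obtain ⟨a', ha', he⟩ := hmem
    have := (Submodule.Quotient.eq _).1 he
    have h2 := sub_mem ha' (hxI n this)
    simpa using h2
  -- descent: every element of `B` is congruent mod `x B` to one killed by `x ^ (n₀ + 1)` mod `A`
  have hdesc : ∀ n b, φ x ^ n * b ∈ φ.range →
      ∃ b₀ r, φ x ^ (n₀ + 1) * b₀ ∈ φ.range ∧ b = b₀ + φ x * r := by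
    intro n
    induction n using Nat.strong_induction_on with
    | _ n ih =>
      intro b hbn
      rcases le_or_gt n (n₀ + 1) with hle | hlt
      · refine ⟨b, 0, ?_, by simp⟩
        obtain ⟨j, hj⟩ := Nat.exists_eq_add_of_le hle
        rw [hj, add_comm n j, pow_add, mul_assoc]
        exact mul_mem (pow_mem (φ.mem_range_self x) j) hbn
      obtain ⟨j, rfl⟩ : ∃ j, n = n₀ + j + 2 := ⟨n - n₀ - 2, by omega⟩
      obtain ⟨a, ha⟩ := hbn
      have haI : a ∈ I (n₀ + j + 1) := ⟨b, ⟨a, ha⟩, 0, by rw [ha, map_zero]; ring⟩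
      have haI' : a ∈ I n₀ := (antitone_nat_of_succ_le hIanti) (by omega) haI
      obtain ⟨r, -, c, hc⟩ := hn₀ (n₀ + j + 2) (by omega) haI'
      have key : φ x * (φ x ^ (n₀ + j + 1) * (b - φ x * r) - φ c) = 0 := by
        linear_combination hc - ha
      obtain ⟨b₀, r₀, hb₀, hbeq⟩ := ih (n₀ + j + 1) (by omega) (b - φ x * r)
        ⟨c, (sub_eq_zero.1 (htf x hx0 _ key)).symm⟩
      exact ⟨b₀, r₀ + r, hb₀, by rw [mul_add]; linear_combination hbeq⟩
  obtain ⟨K, hK0⟩ := hK (n₀ + 1)
  have hcover : ∀ b : B, ∃ c r, b = φ c + φ x * r := by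
    intro β
    have key : ∀ w ∈ (maximalIdeal A ^ K).map φ, ∀ β : B, ∃ c r, w * β = φ c + φ x * r := by
      intro w hw
      induction hw using Submodule.span_induction with
      | mem w hw =>
        obtain ⟨a, ha, rfl⟩ := hw
        intro β
        obtain ⟨n, hn⟩ := hS β
        obtain ⟨b₀, r, ⟨a₀, ha₀⟩, rfl⟩ := hdesc n β hn
        obtain ⟨d, hd⟩ := Ideal.mem_span_singleton'.1 (hK0 (Ideal.mul_mem_mul ha (show a₀ ∈ M (n₀ + 1) from
          ⟨b₀, ha₀⟩)))
        refine ⟨d, φ a * r, ?_⟩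
        have h1 : φ x ^ (n₀ + 1) * (φ d - φ a * b₀) = 0 := by
          have := congrArg φ hd
          rw [map_mul, map_mul, map_pow, ha₀] at this
          linear_combination this
        linear_combination -(hφx _ _ h1)
      | zero => exact fun β => ⟨0, 0, by simp⟩
      | add w w' _ _ h h' =>
        intro β
        obtain ⟨c, r, e⟩ := h β
        obtain ⟨c', r', e'⟩ := h' β
        exact ⟨c + c', r + r', by rw [map_add]; linear_combination e + e'⟩
      | smul s w _ h =>
        intro β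
        obtain ⟨c, r, e⟩ := h (s * β)
        exact ⟨c, r, by rw [smul_eq_mul]; linear_combination e⟩
    have h1 : (1 : B) ∈ (maximalIdeal A ^ K).map φ := by
      rw [Ideal.map_pow, hm, Ideal.top_pow]; exact Submodule.mem_top
    simpa using key 1 h1 β
  have hmm : ∀ w ∈ (maximalIdeal A).map φ, ∀ β : B, ∃ μ ∈ maximalIdeal A, ∃ r, w * β = φ μ + φ x * r := by
    intro w hw
    induction hw using Submodule.span_induction with
    | mem w hw =>
      obtain ⟨a, ha, rfl⟩ := hw
      intro β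
      obtain ⟨c, r, rfl⟩ := hcover β
      exact ⟨a * c, Ideal.mul_mem_right _ _ ha, φ a * r, by rw [map_mul]; ring⟩
    | zero => exact fun β => ⟨0, zero_mem _, 0, by simp⟩
    | add w w' _ _ h h' =>
      intro β
      obtain ⟨c, hc, r, e⟩ := h β
      obtain ⟨c', hc', r', e'⟩ := h' β
      exact ⟨c + c', add_mem hc hc', r + r', by rw [map_add]; linear_combination e + e'⟩
    | smul s w _ h =>
      intro β
      obtain ⟨c, hc, r, e⟩ := h (s * β)
      exact ⟨c, hc, r, by rw [smul_eq_mul]; linear_combination e⟩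
  obtain ⟨μ, hμ, r, hμr⟩ := hmm 1 (by rw [hm]; exact Submodule.mem_top) 1
  obtain ⟨v, hv⟩ : IsUnit (1 - μ) := IsLocalRing.isUnit_one_sub_self_of_mem_nonunits _ hμ
  -- so `x` is invertible in `B`
  have hxinv : φ x * (r * φ (v⁻¹ : Aˣ)) = 1 := by
    have h2 : φ (v : A) * φ (v⁻¹ : Aˣ) = 1 := by rw [← map_mul, Units.mul_inv, map_one]
    have h3 : φ x * r = φ (v : A) := by
      rw [hv, map_sub, map_one]; linear_combination -hμr
    rw [← mul_assoc, h3, h2]
  obtain ⟨k, hk⟩ := hb (r * φ (v⁻¹ : Aˣ))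
  have hpow : maximalIdeal A ^ k ≤ Ideal.span {x} := fun a ha => by
    obtain ⟨d, hd⟩ := hk a ha
    refine Ideal.mem_span_singleton'.2 ⟨d, hinj ?_⟩
    rw [map_mul, hd, mul_assoc, mul_comm _ (φ x), hxinv, mul_one]
  have hmin : maximalIdeal A ∈ (Ideal.span {x}).minimalPrimes :=
    ⟨⟨inferInstance, (Ideal.span_singleton_le_iff_mem _).2 hxm⟩, fun q ⟨hq, hxq⟩ hqm => by
      exact (Ideal.IsPrime.le_of_pow_le (n := k) (hpow.trans hxq))⟩
  have hh := Ideal.height_le_one_of_isPrincipal_of_mem_minimalPrimes _ _ hmin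
  rw [← IsLocalRing.maximalIdeal_height_eq_ringKrullDim]
  exact_mod_cast hh

/-- General form: the kernel only has to be killed by powers of the maximal ideal. -/
theorem ringKrullDim_le_one [IsLocalRing A] [IsNoetherianRing A] (φ : A →+* B)
    (hker : ∀ a, φ a = 0 → ∃ k : ℕ, ∀ t ∈ maximalIdeal A ^ k, t * a = 0) (hm : (maximalIdeal A).map φ = ⊤)
    (hb : ∀ b : B, ∃ k : ℕ, ∀ a ∈ maximalIdeal A ^ k, φ a * b ∈ φ.range) : ringKrullDim A ≤ 1 := by
  classical
  by_contra hgt
  have h2 : ((2 : ℕ) : WithBot ℕ∞) ≤ ringKrullDim A := by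
    rw [not_le] at hgt
    exact Order.succ_le_of_lt hgt
  obtain ⟨l, hl⟩ := Order.le_krullDim_iff.1 h2
  let P : Ideal A := (l ⟨0, by omega⟩).asIdeal
  have hP : P.IsPrime := (l ⟨0, by omega⟩).2
  have hlt : P < (l ⟨1, by omega⟩).asIdeal := l.strictMono (Fin.mk_lt_mk.2 zero_lt_one)
  have hPm : P ≠ maximalIdeal A := fun e =>
    (e ▸ hlt).not_ge (IsLocalRing.le_maximalIdeal (l ⟨1, by omega⟩).2.ne_top)
  haveI : P.IsPrime := hP
  suffices hgoal : ringKrullDim (A ⧸ P) ≤ 1 by
    apply hgt.elim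
    exfalso
    rw [ringKrullDim_quotient] at hgoal
    let f : Fin (l.length + 1) → ↥(PrimeSpectrum.zeroLocus (P : Set A)) := fun i =>
      ⟨l i, (PrimeSpectrum.mem_zeroLocus _ _).2 (l.monotone (Fin.mk_le_of_le_val (Nat.zero_le _)))⟩
    have h3 := (Order.le_krullDim_iff (n := 2)).2 ⟨LTSeries.mk l.length f (fun i j hij => l.strictMono hij), hl⟩
    exact absurd (h3.trans hgoal) (by exact not_le.2 (by exact_mod_cast (one_lt_two : (1 : ℕ) < 2)))
  haveI : IsLocalRing (A ⧸ P) := IsLocalRing.of_surjective' (Ideal.Quotient.mk P) Ideal.Quotient.mk_surjective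
  let ψ : A ⧸ P →+* B ⧸ P.map φ := Ideal.quotientMap _ φ Ideal.le_comap_map
  have hmax : maximalIdeal (A ⧸ P) = (maximalIdeal A).map (Ideal.Quotient.mk P) :=
    (IsLocalRing.map_maximalIdeal_of_surjective _ Ideal.Quotient.mk_surjective).symm
  refine ringKrullDim_le_one_of_domain ψ ?_ ?_ ?_
  · rw [injective_iff_map_eq_zero]
    rintro ⟨a⟩ ha
    change Ideal.Quotient.mk (P.map φ) (φ a) = 0 at ha
    rw [Ideal.Quotient.eq_zero_iff_mem] at ha
    -- elements of `P B` are carried into `P + ker φ` by powers of `m`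
    have key : ∀ w ∈ P.map φ, ∀ β : B, ∃ k : ℕ, ∀ t ∈ maximalIdeal A ^ k, ∃ p ∈ P, φ t * (w * β) = φ p := by
      intro w hw
      induction hw using Submodule.span_induction with
      | mem w hw =>
        obtain ⟨p, hp, rfl⟩ := hw
        intro β
        obtain ⟨k, hk⟩ := hb β
        refine ⟨k, fun t ht => ?_⟩
        obtain ⟨d, hd⟩ := hk t ht
        exact ⟨p * d, Ideal.mul_mem_right _ _ hp, by rw [map_mul, hd]; ring⟩
      | zero => exact fun β => ⟨0, fun t _ => ⟨0, zero_mem _, by simp⟩⟩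
      | add w w' _ _ h h' =>
        intro β
        obtain ⟨k, hk⟩ := h β
        obtain ⟨k', hk'⟩ := h' β
        refine ⟨max k k', fun t ht => ?_⟩
        obtain ⟨p, hp, e⟩ := hk t (Ideal.pow_le_pow_right (le_max_left _ _) ht)
        obtain ⟨p', hp', e'⟩ := hk' t (Ideal.pow_le_pow_right (le_max_right _ _) ht)
        exact ⟨p + p', add_mem hp hp', by rw [map_add]; linear_combination e + e'⟩
      | smul s w _ h =>
        intro β
        obtain ⟨k, hk⟩ := h (s * β)
        refine ⟨k, fun t ht => ?_⟩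
        obtain ⟨p, hp, e⟩ := hk t ht
        exact ⟨p, hp, by rw [smul_eq_mul]; linear_combination e⟩
    obtain ⟨k, hk⟩ := key _ ha 1
    obtain ⟨s, hsm, hsP⟩ := SetLike.exists_of_lt (lt_of_le_of_ne (IsLocalRing.le_maximalIdeal hP.ne_top) hPm)
    obtain ⟨p, hp, e⟩ := hk (s ^ k) (Ideal.pow_mem_pow hsm k)
    rw [mul_one, ← map_mul, ← sub_eq_zero, ← map_sub] at e
    obtain ⟨l, hl⟩ := hker _ e
    have h1 : s ^ l * (s ^ k * a - p) ∈ P := by
      rw [hl _ (Ideal.pow_mem_pow hsm l)]; exact zero_mem _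
    have h2 := (hP.mem_or_mem h1).resolve_left fun h => hsP (hP.mem_of_pow_mem l h)
    have h3 : s ^ k * a ∈ P := by simpa using add_mem h2 hp
    exact Ideal.Quotient.eq_zero_iff_mem.2 ((hP.mem_or_mem h3).resolve_left fun h => hsP (hP.mem_of_pow_mem k h))
  · rw [hmax, Ideal.map_map, show ψ.comp (Ideal.Quotient.mk P) = (Ideal.Quotient.mk (P.map φ)).comp φ from rfl,
      ← Ideal.map_map, hm, Ideal.map_top]
  · rintro ⟨b⟩
    obtain ⟨k, hk⟩ := hb b
    refine ⟨k, fun a ha => ?_⟩
    rw [hmax, ← Ideal.map_pow, Ideal.mem_map_iff_of_surjective _ Ideal.Quotient.mk_surjective] at ha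
    obtain ⟨a, ha, rfl⟩ := ha
    obtain ⟨d, hd⟩ := hk a ha
    exact ⟨Ideal.Quotient.mk P d, congrArg (Ideal.Quotient.mk (P.map φ)) hd⟩

end Groth.Agent.DimOne
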